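import Cfsg.Agent.Lib.Spor.J4Rep.Words

/-!
The representation of degree 112 over the field of two elements of the presented group `J4`, and
the evaluation of words in it.
-/

set_option autoImplicit false
set_option maxRecDepth 100000

namespace CfsgLib.Spor.J4Rep

open Cfsg.Spor

/-- the twelve relators as words -/
def relWords : List (List ℕ) := [
  [0, 0],
  [1, 1, 1],
  [0, 1, 0, 1, 0, 1, 0, 1, 0, 1, 0, 1, 0, 1, 0, 1, 0, 1, 0, 1, 0, 1, 0, 1, 0, 1, 0, 1, 0, 1, 0, 1, 0, 1, 0, 1, 0, 1, 0, 1, 0, 1, 0, 1, 0, 1],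
  [4, 2, 0, 1, 4, 2, 0, 1, 4, 2, 0, 1, 4, 2, 0, 1, 4, 2, 0, 1, 4, 2, 0, 1, 4, 2, 0, 1, 4, 2, 0, 1, 4, 2, 0, 1, 4, 2, 0, 1, 4, 2, 0, 1, 4, 2, 0, 1],
  [4, 2, 4, 2, 0, 1, 0, 1, 4, 2, 4, 2, 0, 1, 0, 1, 4, 2, 4, 2, 0, 1, 0, 1, 4, 2, 4, 2, 0, 1, 0, 1, 4, 2, 4, 2, 0, 1, 0, 1],
  [0, 1, 0, 1, 0, 2, 0, 1, 0, 2, 0, 1, 0, 2, 0, 1, 0, 1, 0, 2, 0, 1, 0, 2, 0, 1, 0, 2, 0, 1, 0, 1, 0, 2, 0, 1, 0, 2, 0, 1, 0, 2, 0, 1, 0, 1, 0, 2, 0, 1, 0, 2, 0, 1, 0, 2],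
  [0, 1, 0, 1, 0, 2, 0, 1, 0, 1, 0, 2, 0, 1, 0, 1, 0, 2, 0, 1, 0, 2, 0, 2, 0, 1, 0, 2, 0, 2, 0, 1, 0, 2, 0, 2],
  [3, 3],
  [5, 2, 4, 2, 4, 2, 4, 1, 4, 1, 4, 2, 4, 2, 3, 1, 0, 1, 0, 2, 0, 2, 0, 1, 0, 1, 0, 1],
  [5, 4, 3, 0],
  [1, 4, 1, 4, 2, 4, 1, 4, 2, 3, 1, 0, 2, 0, 1, 0, 2, 0, 1, 4, 1, 4, 2, 4, 1, 4, 2, 3, 1, 0, 2, 0, 1, 0, 2, 0, 1, 4, 1, 4, 2, 4, 1, 4, 2, 3, 1, 0, 2, 0, 1, 0, 2, 0],
  [1, 0, 1, 0, 1, 0, 1, 1, 0, 1, 0, 1, 0, 1, 1, 0, 1, 0, 1, 0, 1, 3, 2, 2, 4, 2, 4, 2, 4, 2, 4, 2, 4, 2, 4, 2, 2, 4, 2, 4, 2, 4, 3, 0, 1, 0, 1, 0, 1, 1, 0, 1, 0, 1, 0, 1, 0, 1, 0, 1, 0, 1, 1, 1, 0, 1, 0, 1, 0, 1, 1, 0, 1, 0, 1, 0, 1, 1, 0, 1, 0, 1, 0, 1, 3, 2, 2, 4, 2, 4, 2, 4, 2, 4, 2, 4, 2, 4, 2, 2, 4, 2, 4, 2, 4, 3, 0, 1, 0, 1, 0, 1, 1, 0, 1, 0, 1, 0, 1, 0, 1, 0, 1, 0, 1, 1]]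

theorem extra_eq : J4.extra = relWords.map wordF := by decide +kernel

theorem relWords_eval :
    (relWords.all fun w => Nat.beq (evalB w) (oneB 112)) = true := by decide +kernel

/-- the representation of degree 112 -/
def rep : J4 →* GL (Fin 112) (ZMod 2) :=
  PresentedGroup.toGroup (f := gU) (by
    rintro r (⟨a, ha, -⟩ | hr)
    · simp [coxNodes, J4.edges] at ha
    · rw [Set.mem_ofPred_eq, extra_eq, List.mem_map] at hr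
      obtain ⟨w, hw, rfl⟩ := hr
      exact lift_eq_one w rfl (List.all_eq_true.1 relWords_eval w hw))

/-- the element of `J4` given by a word -/
def wval (w : List ℕ) : J4 :=
  PresentedGroup.mk (coxRelators J4.edges ∪ {r | r ∈ J4.extra}) (wordF w)

theorem rep_wval (w : List ℕ) :
    ((rep (wval w) : GL (Fin 112) (ZMod 2)) : Matrix (Fin 112) (Fin 112) (ZMod 2)) =
      toM 112 (evalB w) := by
  rw [← coe_wordF]
  rfl

theorem wval_append (u w : List ℕ) : wval (u ++ w) = wval u * wval w := by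
  simp only [wval, wordF, List.map_append, List.prod_append, map_mul]

theorem wval_nil : wval [] = 1 := by simp [wval, wordF]

theorem rep_eq_of_beq {u w : List ℕ} (h : Nat.beq (evalB u) (evalB w) = true) :
    rep (wval u) = rep (wval w) :=
  Units.ext (by rw [rep_wval, rep_wval, Nat.eq_of_beq_eq_true h])

theorem rep_ne_of_neqB {u w : List ℕ} (h : neqB 112 (evalB u) (evalB w) = true) :
    rep (wval u) ≠ rep (wval w) := fun e =>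
  neqB_sound h (by rw [← rep_wval, ← rep_wval, e])

theorem wval_ne_of_neqB {u w : List ℕ} (h : neqB 112 (evalB u) (evalB w) = true) :
    wval u ≠ wval w := fun e => rep_ne_of_neqB h (congrArg rep e)

theorem rep_x_ne_one : rep (wval [0]) ≠ rep (wval []) :=
  rep_ne_of_neqB (by decide +kernel)

/-- in a simple `J4` the representation is faithful -/
theorem rep_injective [IsSimpleGroup J4] : Function.Injective rep := by
  rcases (inferInstance : rep.ker.Normal).eq_bot_or_eq_top with h | h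
  · exact (MonoidHom.ker_eq_bot_iff _).1 h
  · refine absurd ?_ rep_x_ne_one
    have key : ∀ g, rep g = 1 := fun g => MonoidHom.mem_ker.1 (h ▸ Subgroup.mem_top g)
    rw [key, key]

theorem wval_eq_of_beq [IsSimpleGroup J4] {u w : List ℕ}
    (h : Nat.beq (evalB u) (evalB w) = true) : wval u = wval w :=
  rep_injective (rep_eq_of_beq h)

end CfsgLib.Spor.J4Rep
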