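import Mathlib

/-!
Square matrices over the field of two elements packed into one natural number, the entry in row `i`
and column `j` being the bit `n * i + j`. A product costs one multiplication of long numbers for
each column, so it is cheap for the kernel.
-/

set_option autoImplicit false

namespace CfsgLib.Spor.J4Rep

open Matrix

/-- a one at the start of each of `m` lanes of width `n` -/
def lanes (n : ℕ) : ℕ → ℕ
  | 0 => 0
  | m + 1 => 1 + 2 ^ n * lanes n m

/-- the contribution of the first `k` columns of `P` to the product -/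
def mulAux (n : ℕ) (P Q : ℕ) : ℕ → ℕ
  | 0 => 0
  | k + 1 => mulAux n P Q k ^^^ (((P >>> k) &&& lanes n n) * ((Q >>> (n * k)) % 2 ^ n))

/-- the product of two packed matrices -/
def mulB (n : ℕ) (P Q : ℕ) : ℕ := mulAux n P Q n

/-- the packed identity -/
def oneB (n : ℕ) : ℕ := lanes (n + 1) n

/-- a bit as an element of the field of two elements -/
def bz (b : Bool) : ZMod 2 := bif b then 1 else 0

/-- the matrix of a packed matrix -/
def toM (n : ℕ) (P : ℕ) : Matrix (Fin n) (Fin n) (ZMod 2) :=
  fun i j => bz (P.testBit (n * i + j))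

theorem testBit_lanes : ∀ {n : ℕ}, 0 < n → ∀ m p : ℕ,
    (lanes n m).testBit p = decide (p % n = 0 ∧ p < n * m)
  | n, _, 0, p => by simp [lanes]
  | n, hn, m + 1, p => by
    rw [lanes, add_comm, Nat.testBit_two_pow_mul_add _ (Nat.one_lt_two_pow (by omega)),
      testBit_lanes hn m]
    by_cases h : p < n
    · rw [if_pos h]
      rcases Nat.eq_zero_or_pos p with rfl | hp
      · simp [hn]
      · obtain ⟨q, rfl⟩ := Nat.exists_eq_succ_of_ne_zero hp.ne'
        simp [Nat.mod_eq_of_lt h, Nat.testBit_add_one]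
    · rw [if_neg h]
      push Not at h
      have hm : n * (m + 1) = n * m + n := by ring
      congr 1
      rw [eq_iff_iff]
      constructor <;> rintro ⟨h1, h2⟩
      · refine ⟨?_, by omega⟩
        rw [Nat.mod_eq_sub_mod h]; exact h1
      · refine ⟨?_, by omega⟩
        rwa [← Nat.mod_eq_sub_mod h]

theorem and_lanes {n : ℕ} (hn : 0 < n) (m x : ℕ) :
    x &&& lanes n (m + 1) = (x.testBit 0).toNat + 2 ^ n * ((x >>> n) &&& lanes n m) := by
  refine Nat.eq_of_testBit_eq fun p => ?_
  have hb : (x.testBit 0).toNat < 2 ^ n :=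
    lt_of_le_of_lt (Bool.toNat_le _) (Nat.one_lt_two_pow (by omega))
  rw [add_comm _ (2 ^ n * _), Nat.testBit_two_pow_mul_add _ hb, Nat.testBit_and]
  rw [testBit_lanes hn]
  by_cases h : p < n
  · rw [if_pos h]
    rcases Nat.eq_zero_or_pos p with rfl | hp
    · cases x.testBit 0 <;> simp [hn]
    · obtain ⟨q, rfl⟩ := Nat.exists_eq_succ_of_ne_zero hp.ne'
      cases x.testBit 0 <;> simp [Nat.mod_eq_of_lt h, Nat.testBit_add_one]
  · rw [if_neg h, Nat.testBit_and, Nat.testBit_shiftRight, testBit_lanes hn]
    push Not at h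
    have hm : n * (m + 1) = n * m + n := by ring
    rw [Nat.add_sub_cancel' h]
    congr 2
    rw [eq_iff_iff, Nat.mod_eq_sub_mod h]
    constructor <;> rintro ⟨h1, h2⟩ <;> exact ⟨h1, by omega⟩

theorem testBit_lanes_mul {n : ℕ} (hn : 0 < n) : ∀ (m x r i j : ℕ), r < 2 ^ n → i < m → j < n →
    ((x &&& lanes n m) * r).testBit (n * i + j) = (x.testBit (n * i) && r.testBit j)
  | 0, _, _, _, _, _, hi, _ => absurd hi (Nat.not_lt_zero _)
  | m + 1, x, r, i, j, hr, hi, hj => by
    have hb : (x.testBit 0).toNat * r < 2 ^ n := by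
      cases x.testBit 0 <;> simp [hr]
    rw [and_lanes hn, add_mul, mul_assoc, add_comm ((x.testBit 0).toNat * r),
      Nat.testBit_two_pow_mul_add _ hb]
    rcases Nat.eq_zero_or_pos i with rfl | hi0
    · rw [Nat.mul_zero, Nat.zero_add, if_pos hj]
      cases x.testBit 0 <;> simp
    · obtain ⟨i', rfl⟩ := Nat.exists_eq_succ_of_ne_zero hi0.ne'
      have e : n * (i' + 1) + j = n + (n * i' + j) := by ring
      rw [e, if_neg (by omega), Nat.add_sub_cancel_left,
        testBit_lanes_mul hn m (x >>> n) r i' j hr (by omega) hj, Nat.testBit_shiftRight,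
        show n + n * i' = n * (i' + 1) by ring]

theorem testBit_mulAux {n : ℕ} (P Q i j : ℕ) (hi : i < n) (hj : j < n) : ∀ k ≤ n,
    bz ((mulAux n P Q k).testBit (n * i + j)) =
      ∑ l ∈ Finset.range k, bz (P.testBit (n * i + l)) *
        bz (Q.testBit (n * l + j))
  | 0, _ => by simp [mulAux, bz]
  | k + 1, hk => by
    rw [Finset.sum_range_succ, ← testBit_mulAux P Q i j hi hj k (by omega), mulAux,
      Nat.testBit_xor, testBit_lanes_mul (by omega) n _ _ i j (Nat.mod_lt _ (Nat.two_pow_pos n))
        hi hj, Nat.testBit_shiftRight, Nat.testBit_mod_two_pow, Nat.testBit_shiftRight,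
      show k + n * i = n * i + k by ring, show n * k + j = n * k + j from rfl]
    simp only [hj, decide_true, Bool.true_and]
    cases (mulAux n P Q k).testBit (n * i + j) <;> cases P.testBit (n * i + k) <;>
      cases Q.testBit (n * k + j) <;> decide

theorem toM_mulB {n : ℕ} (P Q : ℕ) : toM n (mulB n P Q) = toM n P * toM n Q := by
  ext i j
  rw [Matrix.mul_apply]
  simp only [toM, mulB]
  rw [testBit_mulAux P Q i j i.2 j.2 n le_rfl, ← Fin.sum_univ_eq_sum_range
    (fun l => bz (P.testBit (n * i + l)) * bz (Q.testBit (n * l + j))) n]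

theorem toM_oneB (n : ℕ) : toM n (oneB n) = 1 := by
  ext i j
  simp only [toM, oneB]
  rw [testBit_lanes (Nat.succ_pos n)]
  have hij := i.2
  have hjj := j.2
  by_cases h : i = j
  · subst h
    rw [show n * (i : ℕ) + i = (n + 1) * i by ring, Matrix.one_apply_eq]
    simp [i.2, bz]
  · rw [Matrix.one_apply_ne h, decide_eq_false]
    · rfl
    rintro ⟨hm, -⟩
    have hv : (i : ℕ) ≠ j := fun e => h (Fin.ext e)
    obtain ⟨q, hq⟩ := Nat.dvd_of_mod_eq_zero hm
    rcases Nat.lt_trichotomy q i with hq' | hq' | hq'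
    · have := Nat.mul_le_mul_left n (Nat.succ_le_of_lt hq')
      rw [Nat.mul_succ] at this
      nlinarith
    · subst hq'; apply hv; nlinarith
    · have := Nat.mul_le_mul_left n (Nat.succ_le_of_lt hq')
      rw [Nat.mul_succ] at this
      nlinarith

/-- some entry of the two matrices differs -/
def neqB (n P Q : ℕ) : Bool :=
  (List.range n).any fun i => (List.range n).any fun j =>
    xor (P.testBit (n * i + j)) (Q.testBit (n * i + j))

theorem neqB_sound {n P Q : ℕ} (h : neqB n P Q = true) : toM n P ≠ toM n Q := by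
  simp only [neqB, List.any_eq_true, List.mem_range] at h
  obtain ⟨i, hi, j, hj, e⟩ := h
  intro hPQ
  have := congrFun (congrFun hPQ ⟨i, hi⟩) ⟨j, hj⟩
  simp only [toM] at this
  revert this e
  cases P.testBit (n * i + j) <;> cases Q.testBit (n * i + j) <;> simp [bz]

end CfsgLib.Spor.J4Rep
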