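import Cfsg.Agent.Lib.Spor.J4Rep.Data
import Cfsg.Prelude.Def_Spor_J4

/-!
Words in `x`, `y`, `y⁻¹`, `t` (written `0`, `1`, `2`, `3`, and `4`, `5` for `x⁻¹`, `t⁻¹`), their values in the free group and in the
packed matrices, and the twelve relators of `J4` evaluated in the matrices.
-/

set_option autoImplicit false
set_option maxRecDepth 100000

namespace CfsgLib.Spor.J4Rep

open Cfsg.Spor

/-- a letter in the free group -/
def letF : ℕ → FreeGroup J4.Gen
  | 0 => J4.x
  | 1 => J4.y
  | 2 => J4.y⁻¹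
  | 3 => J4.t
  | 4 => J4.x⁻¹
  | _ => J4.t⁻¹

/-- a word in the free group -/
def wordF (w : List ℕ) : FreeGroup J4.Gen := (w.map letF).prod

/-- a letter as a packed matrix -/
def letB : ℕ → ℕ
  | 0 => px
  | 1 => py
  | 2 => mulB 112 py py
  | 3 => pt
  | 4 => px
  | _ => pt

/-- a word as a packed matrix -/
def evalB : List ℕ → ℕ
  | [] => oneB 112
  | l :: w => mulB 112 (letB l) (evalB w)

/-- a power of a word -/
def powW : ℕ → List ℕ → List ℕ
  | 0, _ => []
  | n + 1, w => w ++ powW n w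

/-- the image of a generator is invertible -/
theorem px_sq : Nat.beq (mulB 112 px px) (oneB 112) = true := by decide +kernel

theorem py_cube : Nat.beq (mulB 112 py (mulB 112 py py)) (oneB 112) = true := by decide +kernel

theorem py_cube' : Nat.beq (mulB 112 (mulB 112 py py) py) (oneB 112) = true := by decide +kernel

theorem pt_sq : Nat.beq (mulB 112 pt pt) (oneB 112) = true := by decide +kernel

theorem toM_eq_one_of_beq {P Q : ℕ} (h : Nat.beq (mulB 112 P Q) (oneB 112) = true) :
    toM 112 P * toM 112 Q = 1 := by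
  rw [← toM_mulB, Nat.eq_of_beq_eq_true h, toM_oneB]

/-- a generator as an invertible matrix -/
def gU : J4.Gen → GL (Fin 112) (ZMod 2)
  | .x => ⟨toM 112 px, toM 112 px, toM_eq_one_of_beq px_sq, toM_eq_one_of_beq px_sq⟩
  | .y => ⟨toM 112 py, toM 112 (mulB 112 py py), toM_eq_one_of_beq py_cube,
      toM_eq_one_of_beq py_cube'⟩
  | .t => ⟨toM 112 pt, toM 112 pt, toM_eq_one_of_beq pt_sq, toM_eq_one_of_beq pt_sq⟩

theorem coe_letF (l : ℕ) :
    ((FreeGroup.lift gU (letF l) : GL (Fin 112) (ZMod 2)) : Matrix (Fin 112) (Fin 112) (ZMod 2)) =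
      toM 112 (letB l) := by
  unfold letF letB
  split <;> simp [J4.x, J4.y, J4.t, map_inv, FreeGroup.lift_apply_of, gU]

theorem coe_wordF : ∀ w : List ℕ,
    ((FreeGroup.lift gU (wordF w) : GL (Fin 112) (ZMod 2)) : Matrix (Fin 112) (Fin 112) (ZMod 2)) =
      toM 112 (evalB w)
  | [] => by simp [wordF, evalB, toM_oneB]
  | l :: w => by
    rw [wordF, List.map_cons, List.prod_cons, ← wordF, map_mul, Units.val_mul, coe_letF,
      coe_wordF w, evalB, toM_mulB]

theorem lift_eq_one {r : FreeGroup J4.Gen} (w : List ℕ) (hr : r = wordF w)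
    (h : Nat.beq (evalB w) (oneB 112) = true) : FreeGroup.lift gU r = 1 :=
  Units.ext (by rw [hr, coe_wordF, Nat.eq_of_beq_eq_true h, toM_oneB]; rfl)

end CfsgLib.Spor.J4Rep
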